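import Groth.Prelude.Def_RelProj
import Groth.Agent.PnCoh.Chow.Proper
import Groth.Agent.VarDim.Fibre
import Groth.Agent.VarDim.Top
import Groth.Agent.FlatLocus.Basic
import Mathlib.AlgebraicGeometry.ZariskisMainTheorem
import Mathlib.AlgebraicGeometry.FunctionField

/-!
# Loci of flatness and of finite fibres of proper morphisms
-/

set_option autoImplicit false
set_option linter.style.haveILetI false
universe u

open CategoryTheory CategoryTheory.Limits AlgebraicGeometry TopologicalSpace

namespace Groth.Agent.CorrFin75

/-- An H-projective morphism is proper. -/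
theorem isProper_of_isHProjective {S X : Scheme.{u}} {f : X ⟶ S} (h : RelProj.IsHProjective f) :
    IsProper f := by
  obtain ⟨n, i, hi, rfl⟩ := h
  haveI := PnCoh.Chow.isProper_toSpec n (ULift.{u} ℤ)
  haveI : IsProper (CohB1.ProjSpaceOver.toBase n S) :=
    MorphismProperty.of_isPullback (P := @IsProper) (IsPullback.of_hasPullback _ _) (PnCoh.Chow.isProper_toSpec n (ULift.{u} ℤ))
  infer_instance

variable {X Y : Scheme.{u}} (f : X ⟶ Y)

/-- Points in a finite fibre are quasi-finite, and conversely. -/
theorem finite_fibre_iff [LocallyOfFiniteType f] [QuasiCompact f] (y : Y) :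
    (f ⁻¹' {y}).Finite ↔ ∀ x ∈ f ⁻¹' {y}, x ∈ f.quasiFiniteLocus := by
  constructor
  · rintro hfin x hx
    obtain rfl : f x = y := hx
    rw [Scheme.Hom.mem_quasiFiniteLocus, Scheme.Hom.quasiFiniteAt_iff_isOpen_singleton_asFiber]
    haveI : Finite ↥(f.fiber (f x)) :=
      haveI := hfin.to_subtype
      Finite.of_equiv _ (f.fiberHomeo (f x)).symm.toEquiv
    haveI : JacobsonSpace ↥(f.fiber (f x)) :=
      LocallyOfFiniteType.jacobsonSpace (f.fiberToSpecResidueField (f x))
    exact isOpen_discrete _
  · intro h
    refine (f.isCompact_preimage_singleton y).finite ?_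
    rw [isDiscrete_iff_discreteTopology, discreteTopology_iff_forall_isOpen]
    suffices ∀ x : f ⁻¹' {y}, IsOpen ({x} : Set (f ⁻¹' {y})) by
      intro s
      rw [← Set.biUnion_of_singleton s]
      exact isOpen_biUnion fun x _ => this x
    rintro ⟨x, hx⟩
    obtain rfl : f x = y := hx
    have h2 := Scheme.Hom.quasiFiniteAt_iff_isOpen_singleton_asFiber.1 (h x rfl)
    rw [← (f.fiberHomeo (f x)).isOpen_image] at h2
    simpa [Scheme.Hom.asFiber] using h2

/-- The points over which a proper morphism has finite fibres form an open set, over which it is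
finite. -/
theorem exists_finiteFibre_open [IsProper f] :
    ∃ U : Y.Opens, (U : Set Y) = {y | (f ⁻¹' {y}).Finite} ∧ IsFinite (f ∣_ U) := by
  let U : Y.Opens := ⟨(f.base '' (f.quasiFiniteLocus : Set X)ᶜ)ᶜ,
    (f.isClosedMap _ f.quasiFiniteLocus.isOpen.isClosed_compl).isOpen_compl⟩
  have hU : (U : Set Y) = {y | (f ⁻¹' {y}).Finite} := by
    ext y
    show y ∈ (f.base '' _)ᶜ ↔ (f ⁻¹' {y}).Finite
    rw [finite_fibre_iff]
    constructor
    · intro h x hx
      by_contra hx'
      exact h ⟨x, hx', hx⟩
    · rintro h ⟨x, hx', hx⟩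
      exact hx' (h x hx)
  refine ⟨U, hU, ?_⟩
  haveI : IsProper (f ∣_ U) := IsZariskiLocalAtTarget.restrict ‹_› U
  haveI : LocallyQuasiFinite (f ∣_ U) := by
    refine LocallyQuasiFinite.of_finite_preimage_singleton _ fun y => ?_
    have hfin : (f ⁻¹' {(y : U).1}).Finite := hU.le y.2
    refine (hfin.preimage (Subtype.val_injective.injOn)).subset ?_
    intro z hz
    show f z.1 ∈ ({y.1} : Set Y)
    have e := congr(($(morphismRestrict_ι f U)).base z)
    change (f ∣_ U).base z = y at hz
    exact e.symm.trans (congrArg U.ι.base hz)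
  exact IsFinite.of_isProper_of_locallyQuasiFinite _

/-- The points over which a proper morphism is flat form an open set. -/
theorem isOpen_flatBase [IsProper f] [LocallyOfFinitePresentation f] :
    IsOpen {y : Y | ∀ x : X, f x = y → (f.stalkMap x).hom.Flat} := by
  have h : {y : Y | ∀ x : X, f x = y → (f.stalkMap x).hom.Flat} =
      (f.base '' {x : X | (f.stalkMap x).hom.Flat}ᶜ)ᶜ := by
    ext y
    simp only [Set.mem_setOf_eq, Set.mem_compl_iff, Set.mem_image, not_exists, not_and]
    exact ⟨fun h x hx e => hx (h x e), fun h x e => by_contra fun hx => h x hx e⟩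
  rw [h]
  exact (f.isClosedMap _ (FlatLocus.isOpen_flat_locus f).isClosed_compl).isOpen_compl

/-- Stalk maps over the generic point of an integral scheme are flat. -/
theorem flat_stalkMap_of_generic [IsIntegral Y] (x : X) (hx : f x = genericPoint Y) :
    (f.stalkMap x).hom.Flat := by
  letI := (f.stalkMap x).hom.toAlgebra
  have hF : IsField (Y.presheaf.stalk (f x)) := by
    rw [hx]
    exact (inferInstance : Field Y.functionField).toIsField
  letI := hF.toField
  show Module.Flat (Y.presheaf.stalk (f x)) (X.presheaf.stalk x)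
  infer_instance

variable {k : Type u} [Field k]

/-- A morphism between varieties of the same dimension has finite generic fibre. -/
theorem finite_fibre_genericPoint [IsIntegral X] [IsIntegral Y]
    (pY : Y ⟶ Spec (CommRingCat.of k)) [LocallyOfFiniteType pY] (pX : X ⟶ Spec (CommRingCat.of k))
    [LocallyOfFiniteType pX] [LocallyOfFiniteType f] (h : f ≫ pY = pX)
    (hdim : topologicalKrullDim X = topologicalKrullDim Y) :
    (f ⁻¹' {genericPoint Y}).Finite := by
  refine Set.Finite.subset (Set.finite_singleton (genericPoint X)) fun z hz => ?_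
  rw [VarDim.topologicalKrullDim_eq_deg_genericPoint pX,
    VarDim.topologicalKrullDim_eq_deg_genericPoint pY] at hdim
  have hd : VarDim.deg pX (genericPoint X) = VarDim.deg pY (genericPoint Y) := by
    exact_mod_cast hdim
  have h1 : VarDim.deg pY (genericPoint Y) ≤ VarDim.deg pX z := by
    have := VarDim.deg_eq_add f pY h z
    rw [show f z = genericPoint Y from hz] at this
    omega
  by_contra hne
  have hlt : VarDim.deg pX z < VarDim.deg pX (genericPoint X) := by
    letI := specializationOrder X
    exact VarDim.deg_strictMono pX (lt_of_le_of_ne (genericPoint_specializes z) hne)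
  omega

end Groth.Agent.CorrFin75
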