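import Groth.Prelude.Def_AlgEqCyc
import Groth.Agent.CorrFin75.Basic
import Groth.Agent.CycLib.Basic
import Groth.Agent.WeilLib.Geometry
import Groth.Agent.WeilLib.PointCount
import Mathlib.RingTheory.KrullDimension.Zero
import Mathlib.RingTheory.HopkinsLevitzki

/-!
# Positivity of fibre multiplicities, and cycles all of whose fibres vanish
-/

set_option autoImplicit false
set_option linter.style.haveILetI false
universe u

open CategoryTheory CategoryTheory.Limits AlgebraicGeometry TopologicalSpace

namespace Groth.Agent.CorrFin75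

/-- At a closed point isolated in its fibre the multiplicity of the fibre is positive. -/
theorem fibreMult_pos {P C : Scheme.{u}} [IsLocallyNoetherian P] (g : P ⟶ C) (v w : P) (h : w ⤳ v)
    (hiso : ∀ z, w ⤳ z → z ⤳ v → g z = g v → z = v) :
    0 < AlgEqCyc.fibreMult g v w h := by
  set θ := (Ideal.Quotient.mk (RingHom.ker (Cyc.specMap v w h))).comp (g.stalkMap v).hom with hθ
  set J := (IsLocalRing.maximalIdeal (C.presheaf.stalk (g v))).map θ with hJ
  haveI hker : (RingHom.ker (Cyc.specMap v w h)).IsPrime := RingHom.ker_isPrime _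
  haveI : IsLocalRing (Cyc.LocQuot v w h) :=
    IsLocalRing.of_surjective' (Ideal.Quotient.mk _) Ideal.Quotient.mk_surjective
  haveI : IsNoetherianRing (Cyc.LocQuot v w h) := inferInstance
  have hle : J ≤ IsLocalRing.maximalIdeal (Cyc.LocQuot v w h) := by
    rw [hJ, Ideal.map_le_iff_le_comap]
    intro a ha hu
    have h1 : IsUnit ((g.stalkMap v).hom a) := by
      haveI : IsLocalHom (Ideal.Quotient.mk (RingHom.ker (Cyc.specMap v w h))) :=
        IsLocalHom.of_surjective _ Ideal.Quotient.mk_surjective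
      exact IsLocalHom.map_nonunit (f := Ideal.Quotient.mk (RingHom.ker (Cyc.specMap v w h))) _ hu
    exact ha (IsLocalHom.map_nonunit _ h1)
  haveI : Nontrivial (Cyc.LocQuot v w h ⧸ J) :=
    Ideal.Quotient.nontrivial_iff.2 fun e => (IsLocalRing.maximalIdeal.isMaximal _).ne_top
      (top_le_iff.1 (e ▸ hle))
  haveI : IsArtinianRing (Cyc.LocQuot v w h ⧸ J) := by
    refine isArtinianRing_iff_isNoetherianRing_krullDimLE_zero.2 ⟨inferInstance,
      Ring.krullDimLE_zero_iff.2 fun q hq => ?_⟩
    let Q : PrimeSpectrum (P.presheaf.stalk v) :=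
      PrimeSpectrum.comap ((Ideal.Quotient.mk J).comp (Ideal.Quotient.mk _)) ⟨q, hq⟩
    have hQker : RingHom.ker (Cyc.specMap v w h) ≤ Q.asIdeal := by
      intro a ha
      show (Ideal.Quotient.mk J) (Ideal.Quotient.mk _ a) ∈ q
      rw [Ideal.Quotient.eq_zero_iff_mem.2 ha, map_zero]
      exact q.zero_mem
    have hspec : P.fromSpecStalk v Q ⤳ v := CDiv6.fromSpecStalk_specializes Q
    have hw : w ⤳ P.fromSpecStalk v Q := by
      have := ((PrimeSpectrum.le_iff_specializes (CDiv6.primeOf h) Q).1
        (show (CDiv6.primeOf h).asIdeal ≤ Q.asIdeal by rw [← CycLib.ker_specMap h]; exact hQker)).map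
          (P.fromSpecStalk v).continuous
      rwa [CDiv6.fromSpecStalk_primeOf] at this
    have hg : g (P.fromSpecStalk v Q) = g v := by
      show (P.fromSpecStalk v ≫ g) Q = g v
      rw [← Scheme.SpecMap_stalkMap_fromSpecStalk g]
      show C.fromSpecStalk (g v) (PrimeSpectrum.comap (g.stalkMap v).hom Q) = g v
      have : PrimeSpectrum.comap (g.stalkMap v).hom Q = IsLocalRing.closedPoint _ := by
        refine PrimeSpectrum.ext ((IsLocalRing.maximalIdeal.isMaximal _).eq_of_le
          (Ideal.IsPrime.ne_top (PrimeSpectrum.comap (g.stalkMap v).hom Q).2) ?_).symm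
        intro a ha
        show (Ideal.Quotient.mk J) (θ a) ∈ q
        rw [Ideal.Quotient.eq_zero_iff_mem.2 (Ideal.mem_map_of_mem θ ha)]
        exact q.zero_mem
      rw [this]
      exact Scheme.fromSpecStalk_closedPoint
    have hQ : Q = IsLocalRing.closedPoint _ :=
      (P.fromSpecStalk v).isEmbedding.injective ((hiso _ hw hspec hg).trans
        Scheme.fromSpecStalk_closedPoint.symm)
    have hsurj : Function.Surjective
        ((Ideal.Quotient.mk J).comp (Ideal.Quotient.mk (RingHom.ker (Cyc.specMap v w h)))) :=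
      Ideal.Quotient.mk_surjective.comp Ideal.Quotient.mk_surjective
    haveI : (Q.asIdeal).IsMaximal := by rw [hQ]; exact IsLocalRing.maximalIdeal.isMaximal _
    have he : q = Ideal.map
        ((Ideal.Quotient.mk J).comp (Ideal.Quotient.mk (RingHom.ker (Cyc.specMap v w h)))) Q.asIdeal :=
      (Ideal.map_comap_of_surjective _ hsurj q).symm
    rw [he]
    rcases Ideal.map_eq_top_or_isMaximal_of_surjective _ hsurj ‹Q.asIdeal.IsMaximal› with h' | h'
    · exact absurd (he.trans h') hq.ne_top
    · exact h'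
  have hlen : Module.length (P.presheaf.stalk v) (Cyc.LocQuot v w h ⧸ J) ≠ ⊤ := by
    rw [Module.length_eq_of_surjective (S := P.presheaf.stalk v) (R := Cyc.LocQuot v w h ⧸ J)
      (M := Cyc.LocQuot v w h ⧸ J) (by
        exact Ideal.Quotient.mk_surjective.comp Ideal.Quotient.mk_surjective)]
    rw [Module.length_ne_top_iff, isFiniteLength_iff_isNoetherian_isArtinian]
    exact ⟨inferInstance, inferInstance⟩
  have hpos : Module.length (P.presheaf.stalk v) (Cyc.LocQuot v w h ⧸ J) ≠ 0 :=
    (Module.length_pos).ne'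
  exact Nat.pos_of_ne_zero fun h0 => by
    rcases ENat.toNat_eq_zero.1 h0 with h0 | h0
    · exact hpos h0
    · exact hlen h0

variable {k : Type u} [Field k] [IsAlgClosed k] {X W : Scheme.{u}}
  (p : X ⟶ Spec (CommRingCat.of k)) (q : W ⟶ Spec (CommRingCat.of k))

/-- A cycle with finite fibres over an open set all of whose fibre cycles there vanish is zero,
provided no point of its support is a specialization of another and each lies over the open set. -/
theorem eq_zero_of_fibreFun_eq_zero [IsProper p] [LocallyOfFiniteType q] [QuasiCompact q]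
    (Γ : AlgebraicCycle (pullback p q) ℤ) (U : W.Opens)
    (hover : ∀ ξ, Γ ξ ≠ 0 → pullback.snd p q ξ ∈ U)
    (hmax : ∀ ξ ξ', Γ ξ ≠ 0 → Γ ξ' ≠ 0 → ξ ⤳ ξ' → ξ = ξ')
    (hfin : ∀ ξ, Γ ξ ≠ 0 → ∀ w ∈ U, (closure {ξ} ∩ pullback.snd p q ⁻¹' {w}).Finite)
    (hzero : ∀ (u : Spec (CommRingCat.of k) ⟶ W) (hu : u ≫ q = 𝟙 _),
      u (IsLocalRing.closedPoint k) ∈ U → ∀ x : X, AlgEqCyc.fibreFun p q Γ u hu x = 0) :
    Γ = 0 := by
  classical
  by_contra hne
  obtain ⟨ξ₀, hξ₀⟩ : ∃ ξ, Γ ξ ≠ 0 := by
    by_contra h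
    push Not at h
    exact hne (Function.locallyFinsuppWithin.ext fun x => h x)
  set pP := pullback.snd p q ≫ q with hpP
  haveI : IsProper (pullback.snd p q) :=
    MorphismProperty.of_isPullback (P := @IsProper) (IsPullback.of_hasPullback _ _) inferInstance
  haveI : CompactSpace ↥(pullback p q) := QuasiCompact.compactSpace_of_compactSpace pP
  haveI : JacobsonSpace ↥(pullback p q) := LocallyOfFiniteType.jacobsonSpace pP
  haveI : IsLocallyNoetherian (pullback p q) := LocallyOfFiniteType.isLocallyNoetherian pP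
  have hsupp : Γ.support.Finite := by
    have := Γ.locallyFiniteSupport.finite_inter_support_of_isCompact isCompact_univ
    rwa [Set.univ_inter] at this
  set B : Set ↥(pullback p q) := ⋃ ξ ∈ Γ.support \ {ξ₀}, closure {ξ}
  have hB : IsClosed B := hsupp.diff.isClosed_biUnion fun _ _ => isClosed_closure
  set V : Set ↥(pullback p q) := closure {ξ₀} ∩ ((pullback.snd p q ⁻¹ᵁ U : (pullback p q).Opens) ∩ Bᶜ)
  have hV : ξ₀ ∈ V := by
    refine ⟨subset_closure rfl, hover ξ₀ hξ₀, fun hb => ?_⟩
    obtain ⟨ξ, hξ, hcl⟩ := Set.mem_iUnion₂.1 hb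
    exact hξ.2 (hmax ξ ξ₀ hξ.1 hξ₀ (specializes_iff_mem_closure.2 hcl))
  obtain ⟨z, ⟨hz1, hzU, hzB⟩, hzc⟩ := nonempty_inter_closedPoints ⟨ξ₀, hV⟩
    (isClosed_closure.isLocallyClosed.inter
      ((((pullback.snd p q ⁻¹ᵁ U : (pullback p q).Opens)).2.inter hB.isOpen_compl).isLocallyClosed))
  have hb := WeilLib.bijective_resHom pP z hzc
  let e := RingEquiv.ofBijective _ hb
  let zs : Spec (CommRingCat.of k) ⟶ pullback p q :=
    Spec.map (CommRingCat.ofHom e.symm.toRingHom) ≫ (pullback p q).fromSpecResidueField z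
  have hzs : zs ≫ pP = 𝟙 _ := by
    rw [Category.assoc, WeilLib.fromSpecResidueField_comp, ← Spec.map_comp, ← Spec.map_id]
    congr 1
    ext c
    exact e.symm_apply_apply c
  have hzpt : zs (IsLocalRing.closedPoint k) = z := Scheme.fromSpecResidueField_apply z _
  let us := zs ≫ pullback.snd p q
  have hus : us ≫ q = 𝟙 _ := by rw [Category.assoc]; exact hzs
  have hupt : us (IsLocalRing.closedPoint k) = pullback.snd p q z := congrArg (pullback.snd p q).base hzpt
  have hslice : (zs ≫ pullback.fst p q) ≫ AlgEqCyc.slice p q us hus = zs := by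
    apply pullback.hom_ext
    · rw [Category.assoc, AlgEqCyc.slice, pullback.lift_fst, Category.comp_id]
    · rw [Category.assoc, AlgEqCyc.slice, pullback.lift_snd, Category.assoc, pullback.condition_assoc]
      show zs ≫ pP ≫ us = us
      rw [reassoc_of% hzs]
  set x := (zs ≫ pullback.fst p q) (IsLocalRing.closedPoint k)
  have hsx : AlgEqCyc.slice p q us hus x = z :=
    (congr(($hslice).base (IsLocalRing.closedPoint k))).trans hzpt
  have h0 := hzero us hus (hupt ▸ hzU) x
  rw [AlgEqCyc.fibreFun, finsum_eq_single _ ⟨ξ₀, hξ₀, hsx ▸ specializes_iff_mem_closure.2 hz1⟩] at h0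
  · have hpos : 0 < AlgEqCyc.fibreMult (pullback.snd p q) (AlgEqCyc.slice p q us hus x) ξ₀
        (hsx ▸ specializes_iff_mem_closure.2 hz1) := by
      refine fibreMult_pos _ _ _ _ fun y hy hyz hg => ?_
      rw [hsx] at hyz hg ⊢
      set F := closure {ξ₀} ∩ pullback.snd p q ⁻¹' {pullback.snd p q z}
      have hF : F.Finite := hfin ξ₀ hξ₀ _ hzU
      have hwc : IsClosed ({pullback.snd p q z} : Set W) := by
        have := (pullback.snd p q).isClosedMap _ hzc
        rwa [Set.image_singleton] at this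
      have hFc : IsClosed F := isClosed_closure.inter (hwc.preimage (pullback.snd p q).continuous)
      have hS : IsClosed (F ∩ closedPoints ↥(pullback p q)) := by
        rw [← Set.biUnion_of_singleton (F ∩ closedPoints ↥(pullback p q))]
        exact (hF.inter_of_left _).isClosed_biUnion fun s hs => hs.2
      have hyF : y ∈ F ∩ closedPoints ↥(pullback p q) := by
        rw [← hS.closure_eq, closure_inter_closedPoints hFc]
        exact ⟨specializes_iff_mem_closure.1 hy, hg⟩
      have := specializes_iff_mem_closure.1 hyz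
      rw [hyF.2.closure_eq] at this
      exact this.symm
    rcases mul_eq_zero.1 h0 with h0 | h0
    · exact hξ₀ h0
    · exact hpos.ne' (by exact_mod_cast h0)
  · rintro ⟨ξ, hξ, hspec⟩ hne'
    exfalso
    refine hzB (Set.mem_iUnion₂.2 ⟨ξ, ⟨hξ, fun e' => hne' (Subtype.ext e')⟩, ?_⟩)
    exact specializes_iff_mem_closure.1 (hsx ▸ hspec)

end Groth.Agent.CorrFin75
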